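import Cfsg.Agent.H5.TCkSound

/-!
# S2093 (Schur multiplier of `Sp₆(2)`): the data (helper5)

`Sp₆(2)` is generated by three elements `a, b, w` of order `7` (generators `0, 1, 2`; letters `2 i` and `2 i + 1`
for generator `i` and its inverse, words in the convention of `Cfsg.H5.TCk.ev`). All relators are *exact*
in every stem extension, because `7` does not divide the order of the multiplier: the three seventh powers and
sixteen conjugation relators `u xᵢ u⁻¹ = xⱼ^k`. `⟨a, b⟩ ≅ U₃(3)` (relators `relsH`), of index `240`.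
The group presented by `relsK` is the double cover `2 · Sp₆(2)`; `wordZ = (a³ w)³` is its central involution.
-/

set_option autoImplicit false

namespace Cfsg.Agent.Lib.Helper5.Sp62

open Cfsg.H5.TCk

/-- the relator `u xᵢ u⁻¹ c ^ m`, with `c` a letter of a generator: it says `u xᵢ u⁻¹ = c ^ (-m)` -/
def cr (u : List ℕ) (i c m : ℕ) : List ℕ := u ++ [2 * i] ++ winv u ++ List.replicate m c

/-- the conjugation relators of `⟨a, b⟩ ≅ U₃(3)`: `(u, i, c, m)` stands for `cr u i c m` -/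
def conjH : List (List ℕ × ℕ × ℕ × ℕ) := [
  ([1, 1, 3, 1], 1, 3, 2),
  ([0, 2, 0, 0], 1, 2, 3),
  ([1, 3, 1, 3, 1, 2], 0, 3, 2),
  ([0, 0, 3, 0, 2, 0, 2, 0], 1, 0, 3),
  ([0, 3, 0, 3, 0, 2, 2, 0], 1, 1, 2),
  ([0, 3, 3, 3, 1, 2, 1, 3], 0, 1, 2),
  ([0, 2, 0, 3, 1, 3, 1, 2], 0, 3, 1),
  ([0, 0, 3, 0, 2, 2, 2, 0, 2], 0, 3, 1)]

/-- the conjugation relators involving `w` -/
def conjS : List (List ℕ × ℕ × ℕ × ℕ) := [
  ([2, 5], 1, 4, 2),
  ([2, 2, 4, 3], 2, 3, 3),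
  ([3, 3, 4], 1, 4, 2),
  ([2, 2, 5, 5], 1, 4, 2),
  ([1, 1, 3, 1, 2], 2, 5, 2),
  ([0, 2, 0, 0, 5, 5], 1, 4, 1),
  ([2, 5, 0, 2, 2, 2, 1], 2, 0, 2),
  ([5, 2, 0, 4, 4, 0, 2], 0, 0, 2)]

/-- the relator of an entry -/
def crOf (q : List ℕ × ℕ × ℕ × ℕ) : List ℕ := cr q.1 q.2.1 q.2.2.1 q.2.2.2

/-- relators of `U₃(3) = ⟨a, b⟩` -/
def relsH : List (List ℕ) := [List.replicate 7 0, List.replicate 7 2] ++ conjH.map crOf

/-- relators of `2 · Sp₆(2) = ⟨a, b, w⟩` -/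
def relsK : List (List ℕ) := relsH ++ [List.replicate 7 4] ++ conjS.map crOf

/-- `(a³ w)³`: trivial in `Sp₆(2)`, the central involution of `2 · Sp₆(2)` -/
def wordZ : List ℕ := [0, 0, 0, 4, 0, 0, 0, 4, 0, 0, 0, 4]

/-- the hypotheses on three elements `g 0, g 1, g 2` of a group `G` which make `G` a copy of `Sp₆(2)` -/
def IsSp62Triple {G : Type*} [Group G] (g : ℕ → G) : Prop :=
  Nat.card G = 1451520 ∧ Subgroup.closure (Set.range fun i : Fin 3 => g i.val) = ⊤ ∧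
    (∀ r ∈ relsK, ev g r = 1) ∧ ev g wordZ = 1

/-! ### the matrices: columns as bit masks, bit `i` = `Sum.inl i`, bit `3 + i` = `Sum.inr i` -/

/-- columns of `a`, `b`, `w` (the image of the `j`-th basis vector is the `j`-th number) -/
def colsA : List ℕ := [4, 17, 10, 32, 25, 26]
def colsB : List ℕ := [49, 33, 32, 34, 11, 28]
def colsW : List ℕ := [60, 47, 36, 9, 52, 50]

/-- `wordCox` evaluates to the Coxeter element `e₀ ↦ e₁ ↦ e₂ ↦ f₀ ↦ f₁ ↦ f₂ ↦ e₀`, `wordT` to the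
transvection `f₀ ↦ f₀ + e₀`, `wordG` to an element with `e₁ ↦ e₁ + e₀` -/
def wordCox : List ℕ := [5, 2, 1, 5, 5, 1, 5, 3, 1]
def wordT : List ℕ := [0, 0, 0, 3, 1, 4, 2, 1, 4, 1, 3]
def wordG : List ℕ := [2, 2, 1]

end Cfsg.Agent.Lib.Helper5.Sp62
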