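import Cfsg.Agent.Lib.Helper5.Sp62C
import Cfsg.Agent.Lib.Helper1.O8pData
import Cfsg.Agent.Lib.Helper5.O8TC.WB

/-!
# S2098 piece [C] (helper5, for helper1): a group generated by five elements satisfying `relsW` has order at most
`4 |Ω₈⁺(2)|`

One coset enumeration (certificate `O8TC.W.bound`, index `240` of `⟨a, b, w₁⟩` in the group presented by the
relators of `relsW` used by the certificate), and `|⟨a, b, w₁⟩| ≤ 2903040` by `Sp62.card_le_of_relsK`.
The enumeration was run in two phases (first only definitions in the columns of `a, b, w₃`, which is the coset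
enumeration of `2 · Sp₆(2) = ⟨a, b, w₃⟩` over `⟨a, b⟩`; then all columns), by helper24's `ptc`.
-/

set_option autoImplicit false
set_option linter.unusedVariables false

namespace Cfsg.Agent.Lib.Helper1.O8p

open Cfsg.H5.TCk
open Cfsg.Agent.Lib.Helper5 (O8TC.W.bases O8TC.W.subsL O8TC.W.n O8TC.W.bound)
open Cfsg.Agent.Lib.Helper5.Sp62 (relsK card_le_of_relsK card_le_of_bound IsStd)
open Cfsg.Agent.Lib.Helper5.Sp62.C (okWord ev_of_ok lettersLt lt_of_lettersLt ev_congr_lt)

universe u

namespace Helper5C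

theorem std5 : IsStd 5 Cfsg.Agent.Lib.Helper5.O8TC.Cod5.dec := by
  intro c hc
  have hc' : c < 10 := hc
  interval_cases c <;> exact ⟨rfl, rfl⟩

set_option maxRecDepth 100000 in
theorem basesW_ok : Cfsg.Agent.Lib.Helper5.O8TC.W.bases.all (okWord relsW) = true := by decide +kernel

set_option maxRecDepth 100000 in
theorem lettersW : lettersLt (2 * 5) Cfsg.Agent.Lib.Helper5.O8TC.W.bases = true := by decide +kernel

set_option maxRecDepth 100000 in
theorem lettersK : lettersLt (2 * 3) relsK = true := by decide +kernel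

set_option maxRecDepth 100000 in
theorem relsK_sub_chk : relsK.all (fun r => decide (r ∈ relsW)) = true := by decide +kernel

theorem relsK_sub : ∀ r ∈ relsK, r ∈ relsW := by
  intro r hr
  exact of_decide_eq_true (List.all_eq_true.mp relsK_sub_chk r hr)

theorem subsW : Cfsg.Agent.Lib.Helper5.O8TC.W.subsL = [[0], [2], [4]] := rfl

end Helper5C

open Helper5C in
/-- [C] the coset enumeration (index `240` of `⟨a, b, w₁⟩`, which has order `≤ 2903040` by helper5's
`Sp62.card_le_of_relsK`) -/
theorem card_le_of_relsW {Γ : Type u} [Group Γ] (γ : ℕ → Γ) (hrel : ∀ r ∈ relsW, ev γ r = 1)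
    (hgen : Subgroup.closure (Set.range fun i : Fin 5 => γ i.val) = ⊤) :
    Finite Γ ∧ Nat.card Γ ≤ 696729600 := by
  classical
  -- the subgroup `M = ⟨a, b, w₁⟩`
  set M : Subgroup Γ := Subgroup.closure (Set.range fun i : Fin 3 => γ i.val) with hM
  have hmem : ∀ i, i < 3 → γ i ∈ M := fun i hi => Subgroup.subset_closure ⟨⟨i, hi⟩, rfl⟩
  let γ' : ℕ → M := fun i => if h : γ i ∈ M then ⟨γ i, h⟩ else 1
  have hγ' : ∀ i, i < 3 → (γ' i : Γ) = γ i := by
    intro i hi
    show ((if h : γ i ∈ M then (⟨γ i, h⟩ : M) else 1 : M) : Γ) = γ i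
    rw [dif_pos (hmem i hi)]
  have hcoe : ∀ w : List ℕ, (∀ l ∈ w, l < 2 * 3) → ((ev γ' w : M) : Γ) = ev γ w := by
    intro w hw
    have h1 : ((ev γ' w : M) : Γ) = M.subtype (ev γ' w) := rfl
    rw [h1, Cfsg.H5.StemTC.map_ev]
    exact ev_congr_lt _ _ 3 (fun i hi => hγ' i hi) w hw
  have hrelK : ∀ r ∈ relsK, ev γ' r = 1 := by
    intro r hr
    apply Subtype.ext
    rw [hcoe r (lt_of_lettersLt lettersK r hr)]
    exact hrel r (relsK_sub r hr)
  have hgenM : Subgroup.closure (Set.range fun i : Fin 3 => γ' i.val) = ⊤ := by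
    rw [eq_top_iff, ← Subgroup.closure_closure_coe_preimage (k := Set.range fun i : Fin 3 => γ i.val)]
    apply Subgroup.closure_mono
    rintro x ⟨i, hi⟩
    exact ⟨i, Subtype.ext (by rw [hγ' i.val i.isLt]; exact hi)⟩
  obtain ⟨hfinM, hcardM⟩ := card_le_of_relsK γ' hrelK hgenM
  haveI := hfinM
  obtain ⟨hfin, hcard⟩ := card_le_of_bound Cfsg.Agent.Lib.Helper5.O8TC.Cod5.dec std5
    Cfsg.Agent.Lib.Helper5.O8TC.W.bases Cfsg.Agent.Lib.Helper5.O8TC.W.subsL
    Cfsg.Agent.Lib.Helper5.O8TC.W.n Cfsg.Agent.Lib.Helper5.O8TC.W.bound (lt_of_lettersLt lettersW)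
    (by rw [subsW]; intro b hb l hl
        simp only [List.mem_cons, List.not_mem_nil, or_false] at hb
        rcases hb with rfl | rfl | rfl <;> simp only [List.mem_singleton] at hl <;> subst hl <;> norm_num)
    γ (fun b hb => ev_of_ok γ relsW hrel b (List.all_eq_true.mp basesW_ok b hb)) hgen M
    (by rw [subsW]; intro s hs
        simp only [List.mem_cons, List.not_mem_nil, or_false] at hs
        rcases hs with rfl | rfl | rfl
        · have : ev γ [0] = γ 0 := by simp [ev, gl]
          rw [this]; exact hmem 0 (by norm_num)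
        · have : ev γ [2] = γ 1 := by simp [ev, gl]
          rw [this]; exact hmem 1 (by norm_num)
        · have : ev γ [4] = γ 2 := by simp [ev, gl]
          rw [this]; exact hmem 2 (by norm_num))
  refine ⟨hfin, le_trans hcard ?_⟩
  show 240 * Nat.card M ≤ 696729600
  omega

end Cfsg.Agent.Lib.Helper1.O8p
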