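import Cfsg.Agent.Lib.Helper11.MinDeg.Defs

/-!
# S2140 front, piece F4a: the counting lemma `exists_proj_ne_top`

A proper additive subgroup `B` of `v^⊥` does not project onto `F` in every direction `w ∉ F v`
(double counting of the pairs `(φ, w)`, `φ ∈ B`, `φ ⬝ᵥ w = 0`).
-/

set_option autoImplicit false

namespace Cfsg.Agent.Lib.Helper5.MinDegProj

open Matrix

section Aux

variable {F : Type*} [Field F] {n : ℕ}

/-- Lagrange for an additive map which is onto `F` on the subgroup `B`. -/
theorem card_inf_ker_mul {M : Type*} [AddCommGroup M] [Finite M] (f : M →+ F)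
    (B : AddSubgroup M) (hs : ∀ c : F, ∃ x ∈ B, f x = c) :
    Nat.card (B ⊓ f.ker : AddSubgroup M) * Nat.card F = Nat.card B := by
  let g : B →+ F := f.comp B.subtype
  have hg : Function.Surjective g := by
    intro c
    obtain ⟨x, hx, hxc⟩ := hs c
    exact ⟨⟨x, hx⟩, hxc⟩
  have h1 : Nat.card g.ker * g.ker.index = Nat.card B := g.ker.card_mul_index
  have h2 : g.ker.index = Nat.card F := by
    rw [AddSubgroup.index_ker, AddMonoidHom.range_eq_top.mpr hg]
    exact Nat.card_congr AddSubgroup.topEquiv.toEquiv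
  have h3 : Nat.card g.ker = Nat.card (B ⊓ f.ker : AddSubgroup M) := by
    apply Nat.card_congr
    refine ⟨fun x => ⟨x.1.1, x.1.2, x.2⟩, fun y => ⟨⟨y.1, y.2.1⟩, y.2.2⟩, ?_, ?_⟩
    · intro x; rfl
    · intro y; rfl
  rw [← h3, ← h2]
  exact h1

/-- the additive map `x ↦ a ⬝ᵥ x` -/
def dotHom (a : Fin n → F) : (Fin n → F) →+ F where
  toFun x := a ⬝ᵥ x
  map_zero' := dotProduct_zero a
  map_add' := dotProduct_add a

theorem dotHom_apply (a x : Fin n → F) : dotHom a x = a ⬝ᵥ x := rfl

theorem dotHom_surj {a : Fin n → F} (ha : a ≠ 0) (c : F) :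
    ∃ x ∈ (⊤ : AddSubgroup (Fin n → F)), dotHom a x = c := by
  obtain ⟨i, hi⟩ : ∃ i, a i ≠ 0 := by
    by_contra h
    push Not at h
    exact ha (funext h)
  refine ⟨Pi.single i (c * (a i)⁻¹), trivial, ?_⟩
  rw [dotHom_apply, dotProduct_single]
  field_simp

variable [Fintype F]

/-- a hyperplane has `q^n / q` elements -/
theorem card_ker_dotHom_mul {a : Fin n → F} (ha : a ≠ 0) :
    Nat.card (dotHom a).ker * Fintype.card F = Fintype.card F ^ n := by
  have h := card_inf_ker_mul (dotHom a) ⊤ (dotHom_surj ha)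
  rw [top_inf_eq, AddSubgroup.card_top, Nat.card_eq_fintype_card (α := F),
    Nat.card_eq_fintype_card (α := Fin n → F), Fintype.card_fun, Fintype.card_fin] at h
  exact h

end Aux

end Cfsg.Agent.Lib.Helper5.MinDegProj

namespace Cfsg.Agent.Lib.Helper11.MinDeg

open Matrix Cfsg.Agent.Lib.Helper5.MinDegProj

section F4a

variable {F : Type*} [Field F] [Fintype F] {n : ℕ}

/-- F4a: a proper additive subgroup of `v^⊥` does not project onto `F` in every direction
`w ∉ F v` -/
theorem exists_proj_ne_top {v : Fin n → F} (hv : v ≠ 0) (hn : 2 ≤ n) (B : AddSubgroup (Fin n → F))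
    (hB : ∀ φ ∈ B, φ ⬝ᵥ v = 0) (hne : ∃ φ : Fin n → F, φ ⬝ᵥ v = 0 ∧ φ ∉ B) :
    ∃ w : Fin n → F, w ∉ F ∙ v ∧ ∃ c : F, ∀ φ ∈ B, φ ⬝ᵥ w ≠ c := by
  classical
  by_contra hcon
  push Not at hcon
  set q := Fintype.card F with hq
  have hq2 : 2 ≤ q := Fintype.one_lt_card
  set b := Nat.card B with hb
  set Bs : Finset (Fin n → F) := Finset.univ.filter (fun φ => φ ∈ B) with hBs
  have hBs_card : Bs.card = b := (Nat.subtype_card Bs (by intro x; simp [hBs])).symm
  -- the two counts
  set col : (Fin n → F) → ℕ := fun φ => (Finset.univ.filter (fun w => φ ⬝ᵥ w = 0)).card with hcol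
  set row : (Fin n → F) → ℕ := fun w => (Bs.filter (fun φ => φ ⬝ᵥ w = 0)).card with hrow
  have hdc : ∑ φ ∈ Bs, col φ = ∑ w, row w := by
    simp only [hcol, hrow, Finset.card_filter]
    exact Finset.sum_comm
  -- columns
  have hcolker : ∀ φ, Nat.card (dotHom φ).ker = col φ := by
    intro φ
    exact Nat.subtype_card _ (by intro w; simp [AddMonoidHom.mem_ker, dotHom_apply])
  have hcol0 : col 0 = q ^ n := by
    simp [hcol, hq]
  have hcol1 : ∀ φ, φ ≠ 0 → col φ * q = q ^ n := by
    intro φ hφ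
    rw [← hcolker]
    exact card_ker_dotHom_mul hφ
  -- rows
  have hrowker : ∀ w, Nat.card (B ⊓ (dotHom w).ker : AddSubgroup (Fin n → F)) = row w := by
    intro w
    exact Nat.subtype_card _ (by
      intro φ
      simp [hBs, AddSubgroup.mem_inf, AddMonoidHom.mem_ker, dotHom_apply, dotProduct_comm w φ])
  have hrow0 : ∀ w, w ∈ F ∙ v → row w = b := by
    intro w hw
    obtain ⟨c, rfl⟩ := Submodule.mem_span_singleton.mp hw
    rw [← hBs_card]
    simp only [hrow]
    congr 1
    apply Finset.filter_true_of_mem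
    intro φ hφ
    have : φ ∈ B := by simpa [hBs] using hφ
    rw [dotProduct_smul, hB φ this, smul_zero]
  have hrow1 : ∀ w, w ∉ F ∙ v → row w * q = b := by
    intro w hw
    rw [← hrowker, hq, ← Nat.card_eq_fintype_card]
    apply card_inf_ker_mul
    intro c
    obtain ⟨φ, hφ, hφc⟩ := hcon w hw c
    exact ⟨φ, hφ, by rw [dotHom_apply, dotProduct_comm]; exact hφc⟩
  -- the line `F v` has `q` elements
  have hline : (Finset.univ.filter (fun w : Fin n → F => w ∈ F ∙ v)).card = q := by
    have h1 : Nat.card (F ∙ v) = (Finset.univ.filter (fun w : Fin n → F => w ∈ F ∙ v)).card :=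
      Nat.subtype_card _ (by intro w; simp)
    rw [← h1, hq, ← Nat.card_eq_fintype_card]
    exact (Nat.card_congr (LinearEquiv.toSpanNonzeroSingleton F (Fin n → F) v hv).toEquiv).symm
  have h0mem : (0 : Fin n → F) ∈ Bs := by simp [hBs, B.zero_mem]
  have hqq : q = (q - 1) + 1 := by omega
  -- (A)
  have hA : (∑ φ ∈ Bs, col φ) * q = b * q ^ n + q ^ n * (q - 1) := by
    rw [Finset.sum_mul]
    have h1 : ∀ φ ∈ Bs, col φ * q = q ^ n + if φ = 0 then q ^ n * (q - 1) else 0 := by
      intro φ _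
      by_cases h : φ = 0
      · subst h
        rw [hcol0, if_pos rfl]
        nth_rewrite 2 [hqq]
        ring
      · rw [hcol1 φ h, if_neg h, add_zero]
    rw [Finset.sum_congr rfl h1, Finset.sum_add_distrib, Finset.sum_const, Finset.sum_ite_eq',
      if_pos h0mem, hBs_card, smul_eq_mul]
  -- (B)
  have hB' : (∑ w, row w) * q = q ^ n * b + q * (b * (q - 1)) := by
    rw [Finset.sum_mul]
    have h1 : ∀ w ∈ (Finset.univ : Finset (Fin n → F)),
        row w * q = b + if w ∈ F ∙ v then b * (q - 1) else 0 := by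
      intro w _
      by_cases h : w ∈ F ∙ v
      · rw [hrow0 w h, if_pos h]
        nth_rewrite 1 [hqq]
        ring
      · rw [hrow1 w h, if_neg h, add_zero]
    rw [Finset.sum_congr rfl h1, Finset.sum_add_distrib, Finset.sum_const, Finset.sum_ite,
      Finset.sum_const, Finset.sum_const_zero, add_zero, hline, Finset.card_univ,
      Fintype.card_fun, Fintype.card_fin, smul_eq_mul, smul_eq_mul]
  rw [hdc, hB'] at hA
  -- `b = q^(n-1)`
  have hq1 : 0 < q - 1 := by omega
  have h5 : q * b * (q - 1) = q ^ n * (q - 1) := by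
    have : q ^ n * b + q * (b * (q - 1)) = q ^ n * b + q ^ n * (q - 1) := by
      rw [hA]; ring
    have := Nat.add_left_cancel this
    rw [← this]; ring
  have h6 : q * b = q ^ n := Nat.eq_of_mul_eq_mul_right hq1 h5
  have hn1 : q ^ n = q * q ^ (n - 1) := by
    rw [← pow_succ']
    congr 1
    omega
  have hqpos : 0 < q := by omega
  have hbq : b = q ^ (n - 1) := by
    rw [hn1] at h6
    exact Nat.eq_of_mul_eq_mul_left hqpos h6
  -- `v^⊥` has `q^(n-1)` elements as well
  have hW : Nat.card (dotHom v).ker = q ^ (n - 1) := by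
    have h := card_ker_dotHom_mul (n := n) hv
    rw [← hq, hn1, mul_comm] at h
    exact Nat.eq_of_mul_eq_mul_left hqpos h
  have hle : B ≤ (dotHom v).ker := by
    intro φ hφ
    rw [AddMonoidHom.mem_ker, dotHom_apply, dotProduct_comm]
    exact hB φ hφ
  have heq : B = (dotHom v).ker :=
    AddSubgroup.eq_of_le_of_card_ge hle (by rw [hW, ← hbq])
  obtain ⟨φ, hφ, hφB⟩ := hne
  apply hφB
  rw [heq, AddMonoidHom.mem_ker, dotHom_apply, dotProduct_comm]
  exact hφ

end F4a

end Cfsg.Agent.Lib.Helper11.MinDeg
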