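import Cfsg.Agent.Lib.Helper5.Sp62Bridge
import Cfsg.Agent.Lib.Helper5.Sp62Data
import Cfsg.Agent.Lib.Helper5.Sp62TC.K1B
import Cfsg.Agent.Lib.Helper5.Sp62TC.K2B
import Cfsg.Agent.H5.StemTC

/-!
# S2093 piece [C]: a group generated by three elements satisfying `relsK` has order at most `2 |Sp₆(2)|`
(helper5)

Two coset enumerations (certificates `Sp62TC.K1B.bound`, index `480` of `⟨a, b⟩`, and `Sp62TC.K2B.bound`,
index `864` of `⟨a⟩` in the group presented by `relsH`), and `|⟨a⟩| ≤ 7`.
-/

set_option autoImplicit false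
set_option linter.unusedVariables false

namespace Cfsg.Agent.Lib.Helper5.Sp62

open Cfsg.H5.TCk

namespace C

theorem std3 : IsStd 3 Sp62TC.Cod3.dec := by
  intro c hc
  have hc' : c < 6 := hc
  interval_cases c <;> exact ⟨rfl, rfl⟩

theorem std2 : IsStd 2 Sp62TC.Cod2.dec := by
  intro c hc
  have hc' : c < 4 := hc
  interval_cases c <;> exact ⟨rfl, rfl⟩

/-- the word or its inverse is one of the relators -/
def okWord (rels : List (List ℕ)) (b : List ℕ) : Bool := decide (b ∈ rels) || decide (winv b ∈ rels)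

theorem ev_of_ok {Γ : Type*} [Group Γ] (γ : ℕ → Γ) (rels : List (List ℕ))
    (hrel : ∀ r ∈ rels, ev γ r = 1) (b : List ℕ) (h : okWord rels b = true) : ev γ b = 1 := by
  unfold okWord at h
  rw [Bool.or_eq_true, decide_eq_true_eq, decide_eq_true_eq] at h
  rcases h with h | h
  · exact hrel b h
  · have := hrel _ h
    rw [ev_winv, inv_eq_one] at this
    exact this

def lettersLt (m : ℕ) (B : List (List ℕ)) : Bool := B.all fun b => b.all fun l => decide (l < m)

theorem lt_of_lettersLt {m : ℕ} {B : List (List ℕ)} (h : lettersLt m B = true) :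
    ∀ b ∈ B, ∀ l ∈ b, l < m := by
  intro b hb l hl
  unfold lettersLt at h
  rw [List.all_eq_true] at h
  have h1 := h b hb
  rw [List.all_eq_true] at h1
  exact of_decide_eq_true (h1 l hl)

set_option maxRecDepth 100000 in
theorem bases1_ok : Sp62TC.K1.bases.all (okWord relsK) = true := by decide +kernel

set_option maxRecDepth 100000 in
theorem bases2_ok : Sp62TC.K2.bases.all (okWord relsH) = true := by decide +kernel

set_option maxRecDepth 100000 in
theorem letters1 : lettersLt (2 * 3) Sp62TC.K1.bases = true := by decide +kernel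

set_option maxRecDepth 100000 in
theorem letters2 : lettersLt (2 * 2) Sp62TC.K2.bases = true := by decide +kernel

theorem subs1 : Sp62TC.K1.subsL = [[0], [2]] := rfl

theorem subs2 : Sp62TC.K2.subsL = [[0]] := rfl

theorem relsH_sub : ∀ r ∈ relsH, r ∈ relsK := by
  intro r hr
  unfold relsK
  exact List.mem_append_left _ (List.mem_append_left _ hr)

theorem gl_congr_lt {Γ : Type*} [Group Γ] (g g' : ℕ → Γ) (t : ℕ) (h : ∀ i < t, g i = g' i) (l : ℕ)
    (hl : l < 2 * t) : gl g l = gl g' l := by
  unfold gl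
  have h2 : l / 2 < t := by omega
  rw [h _ h2]

theorem ev_congr_lt {Γ : Type*} [Group Γ] (g g' : ℕ → Γ) (t : ℕ) (h : ∀ i < t, g i = g' i)
    (w : List ℕ) (hw : ∀ l ∈ w, l < 2 * t) : ev g w = ev g' w := by
  induction w with
  | nil => rfl
  | cons l w ih =>
    simp only [ev]
    rw [gl_congr_lt g g' t h l (hw l List.mem_cons_self),
      ih (fun x hx => hw x (List.mem_cons_of_mem _ hx))]

end C

open C in
/-- [C] the two coset enumerations -/
theorem card_le_of_relsK {Γ : Type*} [Group Γ] (γ : ℕ → Γ) (hrel : ∀ r ∈ relsK, ev γ r = 1)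
    (hgen : Subgroup.closure (Set.range fun i : Fin 3 => γ i.val) = ⊤) :
    Finite Γ ∧ Nat.card Γ ≤ 2903040 := by
  classical
  -- the subgroup `M = ⟨a, b⟩`
  set M : Subgroup Γ := Subgroup.closure (Set.range fun i : Fin 2 => γ i.val) with hM
  have hmem : ∀ i, i < 2 → γ i ∈ M := fun i hi => Subgroup.subset_closure ⟨⟨i, hi⟩, rfl⟩
  let γ' : ℕ → M := fun i => if h : γ i ∈ M then ⟨γ i, h⟩ else 1
  have hγ' : ∀ i, i < 2 → (γ' i : Γ) = γ i := by
    intro i hi
    show ((if h : γ i ∈ M then (⟨γ i, h⟩ : M) else 1 : M) : Γ) = γ i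
    rw [dif_pos (hmem i hi)]
  have hcoe : ∀ w : List ℕ, (∀ l ∈ w, l < 2 * 2) → ((ev γ' w : M) : Γ) = ev γ w := by
    intro w hw
    have h1 : ((ev γ' w : M) : Γ) = M.subtype (ev γ' w) := rfl
    rw [h1, Cfsg.H5.StemTC.map_ev]
    exact ev_congr_lt _ _ 2 (fun i hi => hγ' i hi) w hw
  have hrelH : ∀ b ∈ Sp62TC.K2.bases, ev γ' b = 1 := by
    intro b hb
    apply Subtype.ext
    rw [hcoe b (lt_of_lettersLt letters2 b hb)]
    exact ev_of_ok γ relsH (fun r hr => hrel r (relsH_sub r hr)) b
      (List.all_eq_true.mp bases2_ok b hb)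
  have hgenM : Subgroup.closure (Set.range fun i : Fin 2 => γ' i.val) = ⊤ := by
    rw [eq_top_iff, ← Subgroup.closure_closure_coe_preimage (k := Set.range fun i : Fin 2 => γ i.val)]
    apply Subgroup.closure_mono
    rintro x ⟨i, hi⟩
    exact ⟨i, Subtype.ext (by rw [hγ' i.val i.isLt]; exact hi)⟩
  -- `⟨a⟩` has at most `7` elements
  have ha7 : (γ' 0) ^ 7 = 1 := by
    have h1 : ev γ' (List.replicate 7 0) = 1 := by
      apply Subtype.ext
      rw [hcoe _ (by intro l hl; rw [List.eq_of_mem_replicate hl]; norm_num)]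
      exact hrel _ (relsH_sub _ (by unfold relsH; simp))
    have h2 : ev γ' (List.replicate 7 0) = (γ' 0) ^ 7 := by
      simp only [List.replicate, ev, gl]
      norm_num [pow_succ, mul_assoc]
    rw [← h2, h1]
  have hord : orderOf (γ' 0) ≤ 7 := orderOf_le_of_pow_eq_one (by norm_num) ha7
  have hordpos : 0 < orderOf (γ' 0) := orderOf_pos_iff.mpr (isOfFinOrder_iff_pow_eq_one.mpr ⟨7, by norm_num, ha7⟩)
  haveI : Finite (Subgroup.zpowers (γ' 0)) := by
    apply Nat.finite_of_card_ne_zero
    rw [Nat.card_zpowers]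
    exact hordpos.ne'
  obtain ⟨hfinM, hcardM⟩ := card_le_of_bound Sp62TC.Cod2.dec std2 Sp62TC.K2.bases Sp62TC.K2.subsL
    Sp62TC.K2.n Sp62TC.K2.bound (lt_of_lettersLt letters2)
    (by rw [subs2]; intro b hb l hl; simp only [List.mem_singleton] at hb; subst hb
        simp only [List.mem_singleton] at hl; subst hl; norm_num)
    γ' hrelH hgenM (Subgroup.zpowers (γ' 0))
    (by rw [subs2]; intro s hs; simp only [List.mem_singleton] at hs; subst hs
        have : ev γ' [0] = γ' 0 := by simp [ev, gl]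
        rw [this]; exact Subgroup.mem_zpowers _)
  have hcardM' : Nat.card M ≤ 6048 := by
    refine le_trans hcardM ?_
    rw [Nat.card_zpowers]
    show 864 * orderOf (γ' 0) ≤ 6048
    omega
  haveI := hfinM
  obtain ⟨hfin, hcard⟩ := card_le_of_bound Sp62TC.Cod3.dec std3 Sp62TC.K1.bases Sp62TC.K1.subsL
    Sp62TC.K1.n Sp62TC.K1.bound (lt_of_lettersLt letters1)
    (by rw [subs1]; intro b hb l hl; simp only [List.mem_cons, List.not_mem_nil, or_false] at hb
        rcases hb with rfl | rfl <;> simp only [List.mem_singleton] at hl <;> subst hl <;> norm_num)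
    γ (fun b hb => ev_of_ok γ relsK hrel b (List.all_eq_true.mp bases1_ok b hb)) hgen M
    (by rw [subs1]; intro s hs; simp only [List.mem_cons, List.not_mem_nil, or_false] at hs
        rcases hs with rfl | rfl
        · have : ev γ [0] = γ 0 := by simp [ev, gl]
          rw [this]; exact hmem 0 (by norm_num)
        · have : ev γ [2] = γ 1 := by simp [ev, gl]
          rw [this]; exact hmem 1 (by norm_num))
  refine ⟨hfin, le_trans hcard ?_⟩
  show 480 * Nat.card M ≤ 2903040
  omega

end Cfsg.Agent.Lib.Helper5.Sp62
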