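import Mathlib

/-!
# S2149 front (helper9 architect), piece PG: groups of order `p^3` with two non-commuting elements

All commutators are central, the centre has order `p` and is generated by the commutator of any two
non-commuting elements, two non-commuting elements generate, and a subgroup missing that commutator
has order at most `p`.
-/

set_option autoImplicit false

namespace Cfsg.Agent.Lib.Helper9.U35Min

open scoped commutatorElement

namespace PG5

variable {p : ℕ} [Fact p.Prime]

/-- a group of order `p^k`, `k ≤ 2`, is commutative -/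
theorem comm_of_card_le_sq {G : Type*} [Group G] {k : ℕ} (hk : k ≤ 2) (hcard : Nat.card G = p ^ k)
    (a b : G) : a * b = b * a := by
  have hp : p.Prime := Fact.out
  interval_cases k
  · rw [pow_zero] at hcard
    have : Subsingleton G := (Nat.card_eq_one_iff_unique.mp hcard).1
    exact Subsingleton.elim _ _
  · rw [pow_one] at hcard
    have : IsCyclic G := isCyclic_of_prime_card hcard
    let _ : CommGroup G := IsCyclic.commGroup
    exact mul_comm a b
  · have h := IsPGroup.isMulCommutative_of_card_eq_prime_sq hcard
    exact h.is_comm.comm a b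

/-- the order of a subgroup of a group of order `p^3` -/
theorem card_sub {U : Type*} [Group U] (hcard : Nat.card U = p ^ 3) (H : Subgroup U) :
    ∃ k ≤ 3, Nat.card H = p ^ k := by
  have hp : p.Prime := Fact.out
  have h := H.card_subgroup_dvd_card
  rw [hcard] at h
  exact (Nat.dvd_prime_pow hp).mp h

end PG5

section PG
variable {p : ℕ} [Fact p.Prime] {U : Type*} [Group U]

open PG5

/-- the centre of a non-abelian group of order `p^3` has order `p` -/
theorem PG5.card_center (hcard : Nat.card U = p ^ 3) {a b : U} (hab : a * b ≠ b * a) :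
    Nat.card (Subgroup.center U) = p := by
  have hp : p.Prime := Fact.out
  have hfin : Finite U := Nat.finite_of_card_ne_zero (by rw [hcard]; exact pow_ne_zero 3 hp.ne_zero)
  have hnt : Nontrivial U := by
    refine ⟨⟨a * b, b * a, hab⟩⟩
  have hpg : IsPGroup p U := IsPGroup.of_card hcard
  have hZnt : Nontrivial (Subgroup.center U) := hpg.center_nontrivial
  obtain ⟨k, hk, hZ⟩ := card_sub hcard (Subgroup.center U)
  have hidx : Nat.card (Subgroup.center U) * (Subgroup.center U).index = Nat.card U :=
    (Subgroup.center U).card_mul_index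
  interval_cases k
  · exfalso
    rw [pow_zero] at hZ
    have : Subsingleton (Subgroup.center U) := (Nat.card_eq_one_iff_unique.mp hZ).1
    exact not_subsingleton _ this
  · rw [pow_one] at hZ
    exact hZ
  · exfalso
    -- `U / Z` has order `p`, cyclic, so `U` is abelian
    rw [hZ, hcard] at hidx
    have h2 : (Subgroup.center U).index = p := by
      have : p ^ 2 * (Subgroup.center U).index = p ^ 2 * p := by rw [hidx]; ring
      exact Nat.eq_of_mul_eq_mul_left (pow_pos hp.pos 2) this
    have hq : Nat.card (U ⧸ Subgroup.center U) = p := h2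
    have : IsCyclic (U ⧸ Subgroup.center U) := isCyclic_of_prime_card hq
    have hc := MonoidHom.isMulCommutative_of_isCyclic_of_ker_le_center
      (QuotientGroup.mk' (Subgroup.center U)) (by rw [QuotientGroup.ker_mk'])
    exact hab (hc.is_comm.comm a b)
  · exfalso
    have : Subgroup.center U = ⊤ := by
      rw [← Subgroup.card_eq_iff_eq_top, hZ, hcard]
    have ha : a ∈ Subgroup.center U := by rw [this]; trivial
    exact hab ((Subgroup.mem_center_iff.mp ha b).symm)

/-- all commutators are central -/
theorem pg_comm_mem_center (hcard : Nat.card U = p ^ 3) (x y : U) : ⁅x, y⁆ ∈ Subgroup.center U := by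
  have hp : p.Prime := Fact.out
  by_cases hxy : x * y = y * x
  · have : ⁅x, y⁆ = 1 := commutatorElement_eq_one_iff_commute.mpr hxy
    rw [this]
    exact one_mem _
  · have hZ := PG5.card_center hcard hxy
    have hidx : Nat.card (Subgroup.center U) * (Subgroup.center U).index = Nat.card U :=
      (Subgroup.center U).card_mul_index
    rw [hZ, hcard] at hidx
    have h2 : Nat.card (U ⧸ Subgroup.center U) = p ^ 2 := by
      have : p * (Subgroup.center U).index = p * p ^ 2 := by rw [hidx]; ring
      exact Nat.eq_of_mul_eq_mul_left hp.pos this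
    have hc := comm_of_card_le_sq (le_refl 2) h2
    rw [← QuotientGroup.eq_one_iff, commutatorElement_def]
    simp only [QuotientGroup.mk_mul, QuotientGroup.mk_inv]
    rw [hc (x : U ⧸ Subgroup.center U) (y : U ⧸ Subgroup.center U)]
    group

/-- the centre is generated by the commutator of any two non-commuting elements (so it has order `p`) -/
theorem pg_center_eq_zpowers (hcard : Nat.card U = p ^ 3) {a b : U} (hab : a * b ≠ b * a) :
    Subgroup.center U = Subgroup.zpowers ⁅a, b⁆ ∧ Nat.card (Subgroup.center U) = p := by
  have hp : p.Prime := Fact.out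
  have hfin : Finite U := Nat.finite_of_card_ne_zero (by rw [hcard]; exact pow_ne_zero 3 hp.ne_zero)
  have hZ := PG5.card_center hcard hab
  refine ⟨?_, hZ⟩
  have hle : Subgroup.zpowers ⁅a, b⁆ ≤ Subgroup.center U := by
    rw [Subgroup.zpowers_le]
    exact pg_comm_mem_center hcard a b
  have hne : ⁅a, b⁆ ≠ 1 := fun h => hab (commutatorElement_eq_one_iff_commute.mp h)
  have hcz : Nat.card (Subgroup.zpowers ⁅a, b⁆) = p := by
    have hd : Nat.card (Subgroup.zpowers ⁅a, b⁆) ∣ p := by
      rw [← hZ]
      exact Subgroup.card_dvd_of_le hle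
    rcases (Nat.dvd_prime hp).mp hd with h1 | h1
    · exfalso
      rw [Nat.card_zpowers, orderOf_eq_one_iff] at h1
      exact hne h1
    · exact h1
  exact (Subgroup.eq_of_le_of_card_ge hle (by rw [hZ, hcz])).symm

/-- two non-commuting elements generate -/
theorem pg_closure_eq_top (hcard : Nat.card U = p ^ 3) {a b : U} (hab : a * b ≠ b * a) :
    Subgroup.closure {a, b} = ⊤ := by
  have hp : p.Prime := Fact.out
  have hfin : Finite U := Nat.finite_of_card_ne_zero (by rw [hcard]; exact pow_ne_zero 3 hp.ne_zero)
  obtain ⟨k, hk, hH⟩ := card_sub hcard (Subgroup.closure {a, b})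
  have ha : a ∈ Subgroup.closure ({a, b} : Set U) := Subgroup.subset_closure (by simp)
  have hb : b ∈ Subgroup.closure ({a, b} : Set U) := Subgroup.subset_closure (by simp)
  by_cases hk2 : k ≤ 2
  · exfalso
    have hc := comm_of_card_le_sq hk2 hH ⟨a, ha⟩ ⟨b, hb⟩
    exact hab (congrArg Subtype.val hc)
  · have hk3 : k = 3 := by omega
    rw [← Subgroup.card_eq_iff_eq_top, hH, hk3, hcard]

/-- a subgroup missing the central commutator has order at most `p` -/
theorem pg_card_le (hcard : Nat.card U = p ^ 3) {a b : U} (hab : a * b ≠ b * a) (W : Subgroup U)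
    (hW : ⁅a, b⁆ ∉ W) : Nat.card W ≤ p := by
  have hp : p.Prime := Fact.out
  have hfin : Finite U := Nat.finite_of_card_ne_zero (by rw [hcard]; exact pow_ne_zero 3 hp.ne_zero)
  obtain ⟨hZeq, hZ⟩ := pg_center_eq_zpowers hcard hab
  -- `W ∩ Z = 1`
  have hdisj : Disjoint W (Subgroup.center U) := by
    rw [disjoint_iff]
    by_contra hne
    -- `W ⊓ Z` is a non-trivial subgroup of `Z`, of prime order, so it is `Z`
    have hle : W ⊓ Subgroup.center U ≤ Subgroup.center U := inf_le_right
    have hd : Nat.card ↥(W ⊓ Subgroup.center U) ∣ p := by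
      rw [← hZ]
      exact Subgroup.card_dvd_of_le hle
    rcases (Nat.dvd_prime hp).mp hd with h1 | h1
    · exact hne (Subgroup.card_eq_one.mp h1)
    · have heq : W ⊓ Subgroup.center U = Subgroup.center U :=
        Subgroup.eq_of_le_of_card_ge hle (by rw [hZ, h1])
      have hc : ⁅a, b⁆ ∈ W ⊓ Subgroup.center U := by
        rw [heq]
        exact pg_comm_mem_center hcard a b
      exact hW hc.1
  obtain ⟨k, hk, hWk⟩ := card_sub hcard W
  by_cases hk1 : k ≤ 1
  · rw [hWk]
    calc p ^ k ≤ p ^ 1 := Nat.pow_le_pow_right hp.pos hk1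
      _ = p := pow_one p
  · exfalso
    by_cases hk2 : k = 2
    · -- `W` and `Z` are complements, so `U = W Z` is abelian
      have hcompl : W.IsComplement' (Subgroup.center U) :=
        Subgroup.isComplement'_of_card_mul_and_disjoint (by rw [hWk, hZ, hcard, hk2]; ring) hdisj
      have hsup := hcompl.sup_eq_top
      have hdec : ∀ u : U, ∃ w ∈ W, ∃ z ∈ Subgroup.center U, w * z = u := by
        intro u
        have : u ∈ W ⊔ Subgroup.center U := by rw [hsup]; trivial
        exact Subgroup.mem_sup_of_normal_right.mp this
      have hWc : ∀ w ∈ W, ∀ w' ∈ W, w * w' = w' * w := by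
        intro w hw w' hw'
        have := comm_of_card_le_sq (le_refl 2) (hk2 ▸ hWk) (⟨w, hw⟩ : W) ⟨w', hw'⟩
        exact congrArg Subtype.val this
      obtain ⟨w, hw, z, hz, rfl⟩ := hdec a
      obtain ⟨w', hw', z', hz', rfl⟩ := hdec b
      apply hab
      have c1 := Subgroup.mem_center_iff.mp hz
      have c2 := Subgroup.mem_center_iff.mp hz'
      calc w * z * (w' * z') = w * (z * w') * z' := by group
        _ = w * (w' * z) * z' := by rw [c1 w']
        _ = (w * w') * (z * z') := by group
        _ = (w' * w) * (z' * z) := by rw [hWc w hw w' hw', c2 z]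
        _ = w' * (w * z') * z := by group
        _ = w' * (z' * w) * z := by rw [c2 w]
        _ = w' * z' * (w * z) := by group
    · -- `k = 3`: `W = ⊤`
      have hk3 : k = 3 := by omega
      have : W = ⊤ := by rw [← Subgroup.card_eq_iff_eq_top, hWk, hk3, hcard]
      exact hW (this ▸ Subgroup.mem_top _)

end PG

end Cfsg.Agent.Lib.Helper9.U35Min
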