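import Cfsg.Agent.Lib.Helper4.TC.M24SchurMain
import Cfsg.Agent.Lib.Helper22.Co1MP2Data

/-!
# S2043 block `[P2]`, piece B (helper5, for helper22): recognition of `M₂₄` from helper4's relators

If five elements `γ 0, …, γ 4` of a group satisfy helper4's defining relators of `M₂₄` (`r24`, in the convention of
`Cfsg.H5.TCk.ev`) and `γ 0 ≠ 1`, then they generate a copy of `M₂₄`: perfect, with trivial Schur multiplier, of order
`244823040`, and every word which acts trivially on the `24` points in helper4's tables (`permChk`) is trivial.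
-/

set_option autoImplicit false
set_option linter.unusedVariables false
set_option linter.constructorNameAsVariable false
set_option linter.style.haveILetI false
set_option maxRecDepth 100000

namespace Cfsg.Agent.Lib.Helper22.Co1M

open Cfsg Cfsg.Agent.Helper4.TC Cfsg.Agent.Helper4.TC.M24Perm
open Cfsg.Agent.Helper4.Pres.M24W (Gen)

namespace Helper5

def T0 : ℕ := 956302485175575353788796878166559809
def T1 : ℕ := 983478296959358443554250846857397270
def T2 : ℕ := 983435072843990828779021698901151808
def T3 : ℕ := 970567384681219435340729552166356352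
def T4 : ℕ := 974380510768821363662145534143076928
def T5 : ℕ := 980275914351787324191492553553580224
def T6 : ℕ := 969161275521412809331848259867723856
def T7 : ℕ := 978270888355246908937009344008488137
def T8 : ℕ := 928413874498667716355043516223936224
def T9 : ℕ := 71492056680133066869724754691572096

/-- the tables of the ten letters, five bits per point -/
def tabN (c : ℕ) : ℕ :=
  match c with
  | 0 => T0
  | 1 => T1
  | 2 => T2
  | 3 => T3
  | 4 => T4
  | 5 => T5
  | 6 => T6
  | 7 => T7
  | 8 => T8
  | 9 => T9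
  | _ => 0

/-- the image of the point `y` under the letter `c` -/
def stepN (c y : ℕ) : ℕ := Nat.land (Nat.shiftRight (tabN c) (5 * y)) 31

/-- the image of a point under a word (first letter applied first) -/
def wtabN (w : List ℕ) (y : ℕ) : ℕ := w.foldl (fun y c => stepN c y) y

theorem stepN_eq : ∀ c, c < 10 → ∀ a : Fin 24, (ltab wTab wInvTab c a).val = stepN c a.val := by
  decide +kernel

theorem wtabN_eq (w : List ℕ) (hw : ∀ c ∈ w, c < 10) (a : Fin 24) :
    (wtab wTab wInvTab w a).val = wtabN w a.val := by
  induction w generalizing a with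
  | nil => rfl
  | cons c cs ih =>
    unfold wtab wtabN
    rw [List.foldl_cons, List.foldl_cons]
    have h1 := stepN_eq c (hw c List.mem_cons_self) a
    have h2 := ih (fun d hd => hw d (List.mem_cons_of_mem _ hd)) (ltab wTab wInvTab c a)
    unfold wtab wtabN at h2
    rw [h2, h1]

end Helper5

/-- the letters are less than `10` and the word acts trivially on the `24` points -/
def permChk (w : List ℕ) : Bool :=
  w.all (fun c => Nat.blt c 10) && (List.range 24).all (fun a => Nat.beq (Helper5.wtabN w.reverse a) a)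

namespace Helper5

theorem permChk_spec (w : List ℕ) (h : permChk w = true) :
    (∀ c ∈ w.reverse, c < 10) ∧ ∀ a, wtab wTab wInvTab w.reverse a = a := by
  unfold permChk at h
  rw [Bool.and_eq_true, List.all_eq_true, List.all_eq_true] at h
  have hlt : ∀ c ∈ w.reverse, c < 10 := by
    intro c hc
    have := h.1 c (List.mem_reverse.mp hc)
    exact Nat.le_of_ble_eq_true this
  refine ⟨hlt, fun a => ?_⟩
  apply Fin.ext
  rw [wtabN_eq w.reverse hlt a]
  exact Nat.eq_of_beq_eq_true (h.2 a.val (List.mem_range.mpr a.isLt))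

/-- the generators as a sequence -/
def idx : Gen → ℕ
  | .x => 0
  | .y => 1
  | .z => 2
  | .t => 3
  | .w => 4

variable {G : Type} [Group G]

theorem gl_eq (γ : ℕ → G) (c : ℕ) (hc : c < 10) :
    gl (fun x => γ (idx x)) (dec c) = Cfsg.H5.TCk.gl γ c := by
  interval_cases c <;> simp [gl, Cfsg.H5.TCk.gl, dec, stdDec, M24WCod.gens, idx]

theorem evc_eq (γ : ℕ → G) (w : List ℕ) (hw : ∀ c ∈ w, c < 10) :
    evc (fun x => γ (idx x)) dec w = Cfsg.H5.TCk.ev γ w.reverse := by
  induction w with
  | nil => simp [evc_nil, Cfsg.H5.TCk.ev]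
  | cons c cs ih =>
    rw [evc_cons, ih (fun d hd => hw d (List.mem_cons_of_mem _ hd)), List.reverse_cons,
      Cfsg.H5.TCk.ev_append, gl_eq γ c (hw c List.mem_cons_self)]
    simp [Cfsg.H5.TCk.ev]

theorem r24_eq : r24 = (M24SD.exL4 ++ M24SD.ceL4).map List.reverse := by decide +kernel

theorem simpleP24 : IsSimpleGroup P24 := by
  obtain ⟨e⟩ := iso24
  haveI : IsSimpleGroup M24 := Cfsg.Agent.Lib.Helper28.M24_isSimpleGroup
  exact e.isSimpleGroup

open scoped commutatorElement in
theorem perfectP24 : commutator P24 = ⊤ := by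
  haveI := simpleP24
  obtain ⟨a, b, hab⟩ := not_comm_of_simple_of_not_prime (K := P24) (by rw [card_P24]; norm_num)
  rcases (inferInstance : (commutator P24).Normal).eq_bot_or_eq_top with h | h
  · exfalso
    apply hab
    have hm : ⁅a, b⁆ ∈ commutator P24 := by
      rw [commutator_def]
      exact Subgroup.commutator_mem_commutator (Subgroup.mem_top a) (Subgroup.mem_top b)
    rw [h, Subgroup.mem_bot, commutatorElement_eq_one_iff_mul_comm] at hm
    exact hm
  · exact h

theorem θ24_injective : Function.Injective θ24 := by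
  haveI := simpleP24
  rw [← MonoidHom.ker_eq_bot_iff]
  rcases (inferInstance : (θ24.ker).Normal).eq_bot_or_eq_top with h | h
  · exact h
  · exfalso
    have hr : θ24.range = ⊥ := by
      rw [eq_bot_iff]
      rintro _ ⟨p, rfl⟩
      have hp : p ∈ θ24.ker := by rw [h]; exact Subgroup.mem_top p
      rw [Subgroup.mem_bot]
      exact MonoidHom.mem_ker.mp hp
    have hle : M24 ≤ (⊥ : Subgroup (Equiv.Perm GolayPt)) := hr ▸ le_range24
    have hc : Nat.card M24 ≤ Nat.card (⊥ : Subgroup (Equiv.Perm GolayPt)) := Subgroup.card_le_of_le hle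
    rw [Cfsg.Agent.Lib.Helper28.card_M24, Subgroup.card_bot] at hc
    omega

end Helper5

open Helper5 in
/-- [B] recognition of `M₂₄` from helper4's relators -/
theorem m24_of_rels {G : Type} [Group G] (γ : ℕ → G) (h24 : ∀ r ∈ r24, Cfsg.H5.TCk.ev γ r = 1)
    (hne : γ 0 ≠ 1) :
    commutator ↥(Subgroup.closure (Set.range fun i : Fin 5 => γ i.val)) = ⊤ ∧
    Cfsg.HasCyclicSchurMultiplier ↥(Subgroup.closure (Set.range fun i : Fin 5 => γ i.val)) 1 ∧
    Nat.card ↥(Subgroup.closure (Set.range fun i : Fin 5 => γ i.val)) = 244823040 ∧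
    ∀ w : List ℕ, permChk w = true → Cfsg.H5.TCk.ev γ w = 1 := by
  classical
  haveI := simpleP24
  set f : Gen → G := fun x => γ (idx x) with hf
  have hrel : ∀ r ∈ R24, FreeGroup.lift f r = 1 := by
    rintro r ⟨b, hb, rfl⟩
    rw [lift_wordF, hf, evc_eq γ b (check24 b hb).1]
    apply h24
    rw [r24_eq]
    exact List.mem_map.mpr ⟨b, hb, rfl⟩
  let φ : P24 →* G := PresentedGroup.toGroup hrel
  have hφof : ∀ x, φ (PresentedGroup.of x) = f x := fun x => PresentedGroup.toGroup.of hrel
  have hφw : ∀ w : List ℕ, φ (PresentedGroup.mk R24 (wordF dec w)) = evc f dec w :=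
    fun w => toGroup_wordF _ dec f hrel w
  have hker : φ.ker = ⊥ := by
    rcases (inferInstance : (φ.ker).Normal).eq_bot_or_eq_top with h | h
    · exact h
    · exfalso
      apply hne
      have hx : (PresentedGroup.of Gen.x : P24) ∈ φ.ker := by rw [h]; exact Subgroup.mem_top _
      have := MonoidHom.mem_ker.mp hx
      rw [hφof] at this
      exact this
  have hinj : Function.Injective φ := (MonoidHom.ker_eq_bot_iff φ).mp hker
  have hrange : φ.range = Subgroup.closure (Set.range fun i : Fin 5 => γ i.val) := by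
    rw [MonoidHom.range_eq_map, ← PresentedGroup.closure_range_of R24, MonoidHom.map_closure]
    congr 1
    ext g
    constructor
    · rintro ⟨_, ⟨x, rfl⟩, rfl⟩
      rw [hφof]
      cases x
      · exact ⟨0, rfl⟩
      · exact ⟨1, rfl⟩
      · exact ⟨2, rfl⟩
      · exact ⟨3, rfl⟩
      · exact ⟨4, rfl⟩
    · rintro ⟨i, rfl⟩
      fin_cases i
      · exact ⟨PresentedGroup.of Gen.x, ⟨Gen.x, rfl⟩, hφof Gen.x⟩
      · exact ⟨PresentedGroup.of Gen.y, ⟨Gen.y, rfl⟩, hφof Gen.y⟩
      · exact ⟨PresentedGroup.of Gen.z, ⟨Gen.z, rfl⟩, hφof Gen.z⟩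
      · exact ⟨PresentedGroup.of Gen.t, ⟨Gen.t, rfl⟩, hφof Gen.t⟩
      · exact ⟨PresentedGroup.of Gen.w, ⟨Gen.w, rfl⟩, hφof Gen.w⟩
  let e : P24 ≃* ↥(Subgroup.closure (Set.range fun i : Fin 5 => γ i.val)) :=
    (MonoidHom.ofInjective hinj).trans (MulEquiv.subgroupCongr hrange)
  refine ⟨?_, ?_, ?_, ?_⟩
  · have h3 : (commutator P24).map e.toMonoidHom =
        commutator ↥(Subgroup.closure (Set.range fun i : Fin 5 => γ i.val)) := by
      rw [commutator_def, commutator_def, Subgroup.map_commutator,
        Subgroup.map_top_of_surjective _ e.surjective]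
    rw [← h3, perfectP24, Subgroup.map_top_of_surjective _ e.surjective]
  · exact Schur.hasCyclicSchurMultiplier_one_of_iso e.symm
      (fun Γ _ _ σ hσ => M24SchurMain.ker_eq_bot24 σ hσ)
  · rw [← Nat.card_congr e.toEquiv, card_P24]
  · intro w hw
    obtain ⟨hlt, hfix⟩ := permChk_spec w hw
    have h1 : evc (fP permW) dec w.reverse = 1 :=
      evc_eq_one permW wTab wInvTab permW_acts (permW_acts.inv wInvTab tab_inv2.2) w.reverse ⟨hlt, hfix⟩
    have h2 : θ24 (PresentedGroup.mk R24 (wordF dec w.reverse)) = 1 := by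
      show PresentedGroup.toGroup rel24 (PresentedGroup.mk R24 (wordF dec w.reverse)) = 1
      rw [toGroup_wordF]
      exact h1
    have h3 : PresentedGroup.mk R24 (wordF dec w.reverse) = 1 :=
      θ24_injective (by rw [h2, map_one])
    have h4 := hφw w.reverse
    rw [h3, map_one, hf, evc_eq γ w.reverse hlt, List.reverse_reverse] at h4
    exact h4.symm

/-- all the short relators and stabiliser powers of the data act trivially on the `24` points -/
theorem permChk_all : (relsS ++ stabs.map stabPow).all permChk = true := by decide +kernel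

end Cfsg.Agent.Lib.Helper22.Co1M
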