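import Cfsg.Agent.Lib.Helper28.BSGSPerm
import Cfsg.Agent.Lib.Helper5.Sp62Data
import Cfsg.Agent.Lib.Helper5.Sp62ModelData

/-!
# S2093 piece [M]: the permutation model of the cover `2 · Sp₆(2)` on 480 points (helper5)

Only the relators of `relsK` are checked on the tables, and that `wordZ` moves the point `0`
(pattern of helper7's `Sz8Model`, tables via helper28's `BSGSPerm`).
-/

set_option autoImplicit false

namespace Cfsg.Agent.Lib.Helper5.Sp62

open Cfsg.H5.TCk Cfsg.Agent.Lib.Helper28.BSGS

namespace Model

/-- the table of a letter -/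
def mtab : ℕ → ℕ
  | 0 => mtab0
  | 1 => mtab1
  | 2 => mtab2
  | 3 => mtab3
  | 4 => mtab4
  | 5 => mtab5
  | _ => 0

set_option maxRecDepth 100000 in
theorem pair0 : pairOK 480 12 mtab0 mtab1 = true := by decide +kernel
set_option maxRecDepth 100000 in
theorem pair1 : pairOK 480 12 mtab2 mtab3 = true := by decide +kernel
set_option maxRecDepth 100000 in
theorem pair2 : pairOK 480 12 mtab4 mtab5 = true := by decide +kernel

/-- the three generators of the model -/
def mp : ℕ → Equiv.Perm (Fin 480)
  | 0 => permOf 480 12 mtab0 mtab1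
  | 1 => permOf 480 12 mtab2 mtab3
  | 2 => permOf 480 12 mtab4 mtab5
  | _ => 1

set_option maxRecDepth 100000 in
theorem gl_acts : ∀ l, l < 6 → ∀ a : Fin 480, (gl mp l a).val = look 12 (mtab l) a.val
  | 0, _ => fun a => permOf_apply pair0 a
  | 1, _ => fun a => permOf_inv_apply pair0 a
  | 2, _ => fun a => permOf_apply pair1 a
  | 3, _ => fun a => permOf_inv_apply pair1 a
  | 4, _ => fun a => permOf_apply pair2 a
  | 5, _ => fun a => permOf_inv_apply pair2 a
  | (n + 6), h => absurd h (by omega)

theorem ev_acts (w : List ℕ) (hw : w.all (fun l => decide (l < 6)) = true) :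
    ActsByW 480 12 (ev mp w) (w.map mtab) := by
  induction w with
  | nil => exact actsByW_one 480 12
  | cons l w ih =>
    rw [List.all_cons, Bool.and_eq_true] at hw
    exact actsByW_cons (gl_acts l (of_decide_eq_true hw.1)) (ih hw.2)

/-- Boolean test: the word fixes every point -/
def fixAll (w : List ℕ) : Bool :=
  w.all (fun l => decide (l < 6)) && (List.range 480).all fun a => evalW 12 (w.map mtab) a == a

theorem ev_eq_one (w : List ℕ) (h : fixAll w = true) : ev mp w = 1 := by
  unfold fixAll at h
  rw [Bool.and_eq_true] at h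
  obtain ⟨h1, h2⟩ := h
  rw [List.all_eq_true] at h2
  ext a
  rw [ev_acts w h1 a]
  have := h2 a.val (List.mem_range.mpr a.isLt)
  rw [beq_iff_eq] at this
  rw [this]
  rfl

/-- Boolean test: the word moves the point `0` -/
def moves0 (w : List ℕ) : Bool :=
  w.all (fun l => decide (l < 6)) && !(evalW 12 (w.map mtab) 0 == 0)

theorem ev_ne_one (w : List ℕ) (h : moves0 w = true) : ev mp w ≠ 1 := by
  unfold moves0 at h
  rw [Bool.and_eq_true] at h
  obtain ⟨h1, h2⟩ := h
  intro h3
  have h4 := ev_acts w h1 (0 : Fin 480)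
  rw [h3] at h4
  simp only [Equiv.Perm.coe_one, id_eq, Fin.val_zero] at h4
  rw [← h4] at h2
  simp at h2

set_option maxRecDepth 100000 in
theorem relsK_ok : relsK.all fixAll = true := by decide +kernel

set_option maxRecDepth 100000 in
theorem moves_ok : moves0 wordZ = true := by decide +kernel

end Model

/-- [M] three permutations of `Fin 480` satisfying `relsK` on which `wordZ` acts non-trivially -/
theorem exists_model : ∃ p : ℕ → Equiv.Perm (Fin 480), (∀ r ∈ relsK, ev p r = 1) ∧ ev p wordZ ≠ 1 := by
  refine ⟨Model.mp, ?_, Model.ev_ne_one _ Model.moves_ok⟩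
  intro r hr
  exact Model.ev_eq_one r (List.all_eq_true.mp Model.relsK_ok r hr)

end Cfsg.Agent.Lib.Helper5.Sp62
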