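import Cfsg.Agent.Lib.Helper5.Co2M3OrdData
import Cfsg.Agent.Lib.Helper25.Co2MOrdGen

/-!
# S2044 `[P3-ORD]` (helper5, for helper10): `933120 ≤ |⟨a3, b3, c3⟩|`

Kernel checks of a Schreier-tree certificate (helper27's `chainOKT`, helper25's `size_le_card`): the orbit of the point
`0` has `2430` points, and two elements of the stabiliser of `0` (given as paths in the three tables) move the point `1`
to `384` points.
-/

set_option autoImplicit false
set_option Elab.async false

namespace Cfsg.Agent.Lib.Helper10.Co2M3

open Cfsg.Agent.Lib.Helper28.BSGS Cfsg.Agent.Lib.Helper22.SuzOut Cfsg.Agent.Lib.Helper27.TreeSift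
open Cfsg.Agent.Lib.Helper25.Co2Out (itemOK seqOK_of_items)

namespace Helper5

set_option maxRecDepth 100000 in
theorem gabc_ok : gensOK 4600 13 gabc = true := by decide +kernel

set_option maxRecDepth 100000 in
theorem item_0 : itemOK 4600 13 gabc items 0 = true := by decide +kernel

set_option maxRecDepth 100000 in
theorem item_1 : itemOK 4600 13 gabc items 1 = true := by decide +kernel

theorem seq_ok : seqOK 4600 13 gabc items = true := by
  apply seqOK_of_items
  intro j hj
  have hl : items.length = 2 := rfl
  rw [hl] at hj
  interval_cases j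
  · exact item_0
  · exact item_1

theorem gens_eq : gens = gabc ++ items.map (fun it => it.1) := rfl

set_option maxRecDepth 100000 in
theorem chain_ok : chainOKT 4600 13 gens 8 [] levels = true := by decide +kernel

set_option maxRecDepth 100000 in
theorem size_eq : sizeT 4600 13 levels = 933120 := by decide +kernel

/-- `[P3-ORD]` the lower bound for the order of `⟨a3, b3, c3⟩` (SPARE: helper27's `Co2M3.card_ge` of
`Lib/Helper27/Co2M3Ord.lean` is the piece in use; this one lives in the sub-namespace `Helper5`) -/
theorem card_ge : 933120 ≤ Nat.card ↥(Cfsg.Agent.Lib.Helper28.BSGS.genGroup 4600 13 gabc) := by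
  have h := Cfsg.Agent.Lib.Helper1.Co2M.Helper25.size_le_card 4600 13 gabc items 8 gabc_ok seq_ok levels
    (by rw [← gens_eq]; exact chain_ok)
  rwa [size_eq] at h

end Helper5

end Cfsg.Agent.Lib.Helper10.Co2M3
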