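import Cfsg.Agent.Lib.Helper4.TC.Perm
import Cfsg.Agent.H5.TCkSound

/-!
# From helper4's coset-enumeration bounds to words in the convention of `Cfsg.H5.TCk.ev` (helper5)

`card_le_of_bound`: a certificate `bound` of helper4's checker (`Cfsg.Agent.Helper4.TC.tc_bound`, as
emitted by helper24's tool) for the relators `bases` and the subgroup words `subsL` over the alphabet
`Fin t` with the standard letter coding gives, for every group `Γ` generated by `γ 0, …, γ (t-1)` in
which the words of `bases` evaluate to `1` (in the sense of `Cfsg.H5.TCk.ev`) and every subgroup `K`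
containing the values of `subsL`: `|Γ| ≤ n * |K|`.

helper4's `evc` multiplies the letters in the opposite order; this is absorbed by evaluating at the
inverses of the generators.
-/

set_option autoImplicit false
set_option linter.unusedVariables false
set_option linter.unusedSectionVars false

namespace Cfsg.Agent.Lib.Helper5.Sp62

open Cfsg.Agent.Helper4.TC

/-- the letter coding is the standard one: `2 i ↦ i`, `2 i + 1 ↦ i⁻¹` -/
def IsStd (t : ℕ) (dec : ℕ → Letter (Fin t)) : Prop :=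
  ∀ c, c < 2 * t → ((dec c).1 : ℕ) = c / 2 ∧ (dec c).2 = decide (c % 2 = 0)

variable {t : ℕ} {Γ : Type*} [Group Γ]

theorem gl_inv_eq (dec : ℕ → Letter (Fin t)) (hdec : IsStd t dec) (γ : ℕ → Γ) (c : ℕ)
    (hc : c < 2 * t) :
    Cfsg.Agent.Helper4.TC.gl (fun i : Fin t => (γ i.val)⁻¹) (dec c) = (Cfsg.H5.TCk.gl γ c)⁻¹ := by
  obtain ⟨h1, h2⟩ := hdec c hc
  unfold Cfsg.Agent.Helper4.TC.gl Cfsg.H5.TCk.gl
  rw [h2]
  simp only [h1]
  by_cases h : c % 2 = 0
  · simp [h]
  · simp [h]

theorem evc_inv_eq (dec : ℕ → Letter (Fin t)) (hdec : IsStd t dec) (γ : ℕ → Γ) (w : List ℕ)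
    (hw : ∀ l ∈ w, l < 2 * t) :
    evc (fun i : Fin t => (γ i.val)⁻¹) dec w = (Cfsg.H5.TCk.ev γ w)⁻¹ := by
  induction w with
  | nil => simp [evc_nil, Cfsg.H5.TCk.ev]
  | cons l w ih =>
    rw [evc_cons, ih (fun x hx => hw x (List.mem_cons_of_mem _ hx)),
      gl_inv_eq dec hdec γ l (hw l List.mem_cons_self)]
    show _ = (Cfsg.H5.TCk.gl γ l * Cfsg.H5.TCk.ev γ w)⁻¹
    rw [mul_inv_rev]

theorem card_le_of_bound (dec : ℕ → Letter (Fin t)) (hdec : IsStd t dec)
    (bases subsL : List (List ℕ)) (n : ℕ)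
    (hb : Finite (PresentedGroup (relSet dec bases) ⧸
        (Subgroup.closure (relSet dec subsL)).map (PresentedGroup.mk (relSet dec bases))) ∧
      Nat.card (PresentedGroup (relSet dec bases) ⧸
        (Subgroup.closure (relSet dec subsL)).map (PresentedGroup.mk (relSet dec bases))) ≤ n)
    (hlb : ∀ b ∈ bases, ∀ l ∈ b, l < 2 * t) (hls : ∀ b ∈ subsL, ∀ l ∈ b, l < 2 * t)
    (γ : ℕ → Γ) (hrel : ∀ b ∈ bases, Cfsg.H5.TCk.ev γ b = 1)
    (hgen : Subgroup.closure (Set.range fun i : Fin t => γ i.val) = ⊤)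
    (K : Subgroup Γ) [Finite K] (hK : ∀ s ∈ subsL, Cfsg.H5.TCk.ev γ s ∈ K) :
    Finite Γ ∧ Nat.card Γ ≤ n * Nat.card K := by
  obtain ⟨hfin, hcard⟩ := hb
  set f : Fin t → Γ := fun i => (γ i.val)⁻¹ with hf
  have hrel' : ∀ r ∈ relSet dec bases, FreeGroup.lift f r = 1 := by
    rintro r ⟨b, hbm, rfl⟩
    rw [lift_wordF, hf, evc_inv_eq dec hdec γ b (hlb b hbm), hrel b hbm, inv_one]
  let φ : PresentedGroup (relSet dec bases) →* Γ := PresentedGroup.toGroup hrel'
  have hφof : ∀ i, φ (PresentedGroup.of i) = f i := fun i => PresentedGroup.toGroup.of hrel'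
  have hφw : ∀ w : List ℕ, φ (PresentedGroup.mk (relSet dec bases) (wordF dec w)) = evc f dec w :=
    fun w => toGroup_wordF _ dec f hrel' w
  have hφsurj : Function.Surjective φ := by
    rw [← MonoidHom.range_eq_top, eq_top_iff, ← hgen, Subgroup.closure_le]
    rintro _ ⟨i, rfl⟩
    have : (γ i.val)⁻¹ ∈ φ.range := ⟨PresentedGroup.of i, hφof i⟩
    simpa using φ.range.inv_mem this
  set H : Subgroup (PresentedGroup (relSet dec bases)) :=
    (Subgroup.closure (relSet dec subsL)).map (PresentedGroup.mk (relSet dec bases)) with hH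
  have hHK : H.map φ ≤ K := by
    rw [hH, Subgroup.map_map, MonoidHom.map_closure, Subgroup.closure_le]
    rintro _ ⟨r, ⟨w, hw, rfl⟩, rfl⟩
    show φ (PresentedGroup.mk _ (wordF dec w)) ∈ K
    rw [hφw, hf, evc_inv_eq dec hdec γ w (hls w hw)]
    exact K.inv_mem (hK w hw)
  have h2 : H.index = Nat.card (PresentedGroup (relSet dec bases) ⧸ H) := Subgroup.index_eq_card H
  have h3 : 0 < H.index := by rw [h2]; exact Nat.card_pos
  have h4 : H.index ≤ n := by rw [h2]; exact hcard
  have h1 : (H.map φ).index ∣ H.index := Subgroup.index_map_dvd H hφsurj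
  have h5 : K.index ∣ (H.map φ).index := Subgroup.index_dvd_of_le hHK
  have h6 : K.index ∣ H.index := dvd_trans h5 h1
  have h7 : 0 < K.index := Nat.pos_of_dvd_of_pos h6 h3
  have h8 : K.index ≤ n := le_trans (Nat.le_of_dvd h3 h6) h4
  have h9 : Nat.card Γ = Nat.card K * K.index := (K.card_mul_index).symm
  have hKpos : 0 < Nat.card K := Nat.card_pos
  constructor
  · apply Nat.finite_of_card_ne_zero
    rw [h9]
    exact Nat.mul_ne_zero hKpos.ne' h7.ne'
  · rw [h9, mul_comm]
    exact Nat.mul_le_mul_right _ h8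

end Cfsg.Agent.Lib.Helper5.Sp62
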