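import Cfsg.Agent.Lib.Helper17.Sp62B
import Cfsg.Agent.Lib.Helper11.Sp62UPMain
import Cfsg.Agent.Lib.Helper23.Sp62EGen
import Cfsg.Agent.Lib.Helper23.L34T
import Cfsg.Agent.Lib.Helper21.Sp62P
import Cfsg.Agent.Lib.Helper5.Sp62C
import Cfsg.Agent.Lib.Helper5.Sp62Model

/-!
# S2093 (Schur multiplier of `Sp₆(2)` is `C₂`): assembly (helper5)

Method: `Sp₆(2) = ⟨a, b, w⟩`, all three of order `7`. Since the Sylow `7`-subgroup is cyclic, `7` does not divide
the order of the kernel `Z` of a finite stem extension (S0102), so elements `x` with `x⁷ = 1` have a unique lift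
`x̃` with `x̃⁷ = 1`, and every relation `u xᵢ u⁻¹ = xⱼ^k` lifts exactly. `relsK` consists only of such relators,
and the group they present has order `≤ 480 · 864 · 7 = 2 |Sp₆(2)|` (two coset enumerations).

Pieces: [L] helper1, [P] helper21, [UP] helper11, [E] helper23, [B] helper17, [C]/[M] helper5
(certificate machinery of helper4 and helper24).
-/

set_option autoImplicit false

namespace Cfsg.Agent.Lib.Helper5.Sp62

open Cfsg Cfsg.H5.TCk

universe u

/-- [E] the cover: the group presented by `relsK` -/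
theorem exists_cover {G : Type u} [Group G] (g : ℕ → G) (hg : IsSp62Triple g) :
    ∃ (Γ : Type u) (_ : Group Γ) (_ : Finite Γ) (σ : Γ →* G), IsStemExtension σ ∧
      Nonempty (σ.ker ≃* Multiplicative (ZMod 2)) :=
  Helper23.exists_cover_of (fun γ h1 h2 => card_le_of_relsK γ h1 h2) exists_model
    (fun g h1 h2 => commutator_eq_top_of_relsK g h1 h2) g hg

/-- [F] assembly -/
theorem main {F : Type u} [Field F] [Fintype F] (hF : Fintype.card F = 2) :
    Cfsg.HasCyclicSchurMultiplier (Cfsg.PSp 3 F) 2 := by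
  obtain ⟨g, hg⟩ := exists_triple hF
  haveI : Finite (Cfsg.PSp 3 F) := Nat.finite_of_card_ne_zero (by rw [hg.1]; norm_num)
  refine Cfsg.Agent.Lib.Helper7.L34.hasSchurMultiplier_of_card_le (exists_cover g hg) ?_
  intro Γ _ _ σ hσ
  have h2 : Nat.card (Multiplicative (ZMod 2)) = 2 := by
    rw [Nat.card_eq_fintype_card, Fintype.card_multiplicative, ZMod.card]
  rw [h2]
  exact card_ker_le_two g hg σ hσ

end Cfsg.Agent.Lib.Helper5.Sp62
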